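import Cfsg.Agent.H977.IFO.FixGe
import Cfsg.Agent.ChevalleyStructure.TwistedE6U
import Cfsg.Agent.H79.DiagAuts
import Cfsg.Agent.BpExc.FamTwSix
import Cfsg.Agent.S1053
import Cfsg.Agent.S1033
import Cfsg.Agent.S1036
import Cfsg.Agent.S1037

/-!
# The centraliser of a standard graph involution of `E₆(q)`, `q` odd (helper977, for S5719)

`τ = d' · γ`, `γ` the standard graph automorphism, `d'` the diagonal automorphism with `c_{α₂} = ε`, `c_i = 1` otherwise,
`ε² = 1`: `q ^ 33 ≤ |C(τ)|` (`card_std`).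
-/

set_option autoImplicit false
set_option linter.unusedSectionVars false

namespace Cfsg.Agent.H977.IFO.E6Card

open Cfsg Cfsg.Lie
open Cfsg.Agent.ChevalleyStructure Cfsg.Agent.ChevalleyStructure.Elts
open Cfsg.Agent.ChevalleyStructure.GraphSymm
open Cfsg.Agent.ChevalleyStructure.TwistedU Cfsg.Agent.ChevalleyStructure.TwistedFix
open Cfsg.Agent.ChevalleyStructure.TwistedE6Sigma Cfsg.Agent.ChevalleyStructure.TwistedE6U
open Cfsg.Agent.H79.SimpleGen Cfsg.Agent.H79.OutChev Cfsg.Agent.H79.CharDiag Cfsg.Agent.H79.DiagAuts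
open Cfsg.Agent.BpExc.FamTw.Gr

universe u

/-- the parity of the coefficient of `α₂` -/
def par (r : ℕ) : Bool := decide (((chevE6.coroot.getD r #[]).getD 1 0) % 2 ≠ 0)

theorem par_neg : ∀ r < 72, par (chevE6.neg r) = par r := by decide +kernel

theorem par_rho : ∀ r < 72, par (rho r) = par r := by decide +kernel

def chk (r s : ℕ) : Bool :=
  match chevE6.chainRoot r s 1 with
  | some k => par k == (par r ^^ par s)
  | none => true

theorem par_chk : ∀ r < 72, ∀ s < 72, chk r s = true := by decide +kernel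

theorem par_add {r s k : ℕ} (hr : r < 72) (hs : s < 72) (h : chevE6.chainRoot r s 1 = some k) :
    par k = (par r ^^ par s) := by
  have h1 := par_chk r hr s hs
  unfold chk at h1
  rw [h] at h1
  exact eq_of_beq h1

theorem par_simple : ∀ i : Fin 6, par (chevE6.simple i) = decide (i = 1) := by decide +kernel

/-- the negative orbits -/
def L' : List (List ℕ) := L.map fun o => o.map fun r => 71 - r

theorem L'_lt : ∀ r ∈ L'.flatten, r < 72 := by decide

theorem L'_nodup : L'.flatten.Nodup := by decide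

theorem L'_length : L'.flatten.length = 36 := by decide

theorem isNegRoot_iff_lt : ∀ r < 72, (chevE6.IsNegRoot r ↔ r ∈ L'.flatten) := by decide +kernel

theorem goodCheck_L' : goodCheck L'.flatten = true := by decide +kernel

theorem orbit_check' : ∀ o ∈ L', o.Pairwise fun r s =>
    s ≠ r ∧ s ≠ chevE6.neg r ∧ chevE6.commTerms r s = [] := by decide +kernel

/-- representatives -/
def R : List ℕ := [39, 44, 60, 71, 56, 42, 38, 40, 41, 48, 45, 49, 52, 54, 55, 66]

def R' : List ℕ := R.map fun r => 71 - r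

section Field

variable {F : Type u} [Field F] (ε : Fˣ)

/-- the character -/
def chi (r : ℕ) : Fˣ := if par r then ε else 1

variable {ε} (hε : ε * ε = 1)

include hε

theorem chi_sq (r : ℕ) : chi ε r * chi ε r = 1 := by
  unfold chi
  split_ifs
  · exact hε
  · exact mul_one 1

theorem chi_inv (r : ℕ) : (chi ε r)⁻¹ = chi ε r := inv_eq_of_mul_eq_one_left (chi_sq hε r)

theorem isChar : chevE6.IsRootCharacter (chi ε) := by
  constructor
  · intro r hr
    rw [chi_inv hε]
    unfold chi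
    rw [par_neg r hr]
  · intro r s k hr hs h
    unfold chi
    rw [par_add hr hs h]
    cases par r <;> cases par s <;> simp [hε]

omit hε in
theorem chi_simple (i : Fin 6) : chi ε (chevE6.simple i) = if i = 1 then ε else 1 := by
  unfold chi
  rw [par_simple]
  simp

/-- the coefficient of `τ` -/
def cc (ε : Fˣ) (r : ℕ) : F := (chi ε (rho r) : F) * ((eps r : ℤ) : F)

theorem cc_mul {r : ℕ} (hr : r < 72) : cc ε r * cc ε (rho r) = 1 := by
  have h1 : (chi ε (rho r) : F) * (chi ε (rho r) : F) = 1 := by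
    rw [← Units.val_mul, chi_sq hε, Units.val_one]
  have h2 : chi ε r = chi ε (rho r) := by
    unfold chi
    rw [par_rho r hr]
  have h3 : ((eps r : ℤ) : F) * ((eps r : ℤ) : F) = 1 := by
    rw [← Int.cast_mul, eps_sq r hr, Int.cast_one]
  unfold cc
  rw [rho_rho r hr, eps_rho r hr, h2]
  linear_combination ((eps r : ℤ) : F) * ((eps r : ℤ) : F) * h1 + h3

omit hε in
theorem cc_one {r : ℕ} (hr : r < 72) (h : rho r = r) (hp : par r = false) : cc ε r = 1 := by
  unfold cc chi
  rw [h, hp, eps_of_rho_eq r hr h]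
  simp

/-- `τ` on `GL` -/
noncomputable def sg (ε : Fˣ) : GL chevE6.Idx F →* GL chevE6.Idx F :=
  (MulAut.conj (hatG chevE6 (chi ε))).toMonoidHom.comp (sig symmE6 (RingHom.id F))

theorem sg_X {r : ℕ} (hr : r < 72) (t : F) : sg ε (X r t) = X (rho r) (cc ε r * t) := by
  have h1 : sig symmE6 (RingHom.id F) (X r t) = X (rho r) (((eps r : ℤ) : F) * t) := by
    rw [sig_X (RingHom.id F) hr t, RingHom.id_apply]
  show hatG chevE6 (chi ε) * sig symmE6 (RingHom.id F) (X r t) * (hatG chevE6 (chi ε))⁻¹ = _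
  rw [h1, hatG_conj_xG hE6 (isChar hε) (rho_lt r hr)]
  unfold cc
  rw [mul_assoc]

theorem d'_eq {d' : MulAut ↥(chevE6.group F)} (hd : IsD hE6 (fun i : Fin 6 => if i = 1 then ε else 1) d') :
    d' = diagAut hE6 (isChar hε) := by
  refine hd.unique ?_
  have h1 := isD_diagAut hE6 (isChar hε)
  have h2 : (fun i : Fin chevE6.rank => chi ε (chevE6.simple i)) = fun i : Fin 6 => if i = 1 then ε else 1 :=
    funext fun i => chi_simple i
  rwa [h2] at h1

theorem coe_tau {d' : MulAut ↥(chevE6.group F)} (hd : IsD hE6 (fun i : Fin 6 => if i = 1 then ε else 1) d')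
    (g : ↥(chevE6.group F)) :
    (((d' * gr hE6 symmE6 : MulAut ↥(chevE6.group F)) g : ↥(chevE6.group F)) : GL chevE6.Idx F) = sg ε g := by
  rw [MulAut.mul_apply, d'_eq hε hd, coe_diagAut, coe_gr]
  show _ = hatG chevE6 (chi ε) * sig symmE6 (RingHom.id F) (g : GL chevE6.Idx F) * (hatG chevE6 (chi ε))⁻¹
  have h1 : sig symmE6 (RingHom.id F) (g : GL chevE6.Idx F) = symmE6.P F * g * (symmE6.P F)⁻¹ := by
    show symmE6.P F * (Matrix.GeneralLinearGroup.map (RingHom.id F) (g : GL chevE6.Idx F)) * (symmE6.P F)⁻¹ = _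
    congr 2
  rw [h1]

theorem setup_pos [Fintype F] : Setup (X (K := F)) L (sg ε) rho rho (fun r t => cc ε r * t) where
  hadd := X_add
  nodup := L_nodup
  good := good_L
  inj := lprod_inj
  hσ r hr t := sg_X hε (L_lt r hr) t
  perm := by decide
  comm o ho := orbit_commute ho
  left_inv r hr := rho_rho r (L_lt r hr)

omit hε in
theorem neg_eq : chevE6.negUnipotent F = rspan (X (K := F)) {k | k ∈ L'.flatten} := by
  apply le_antisymm
  · rw [Elts.negUnipotent_le_iff hE6]
    intro r hr t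
    exact mem_rspan (X (K := F)) (S := {k | k ∈ L'.flatten}) ((isNegRoot_iff_lt r hr.1).1 hr) t
  · refine rspan_le _ fun r hr t => ?_
    exact Elts.xG_mem_negUnipotent hE6 ((isNegRoot_iff_lt r (L'_lt r hr)).2 hr) t

omit hε in
theorem card_neg [Fintype F] : Nat.card (chevE6.negUnipotent F) = Nat.card F ^ 36 := by
  obtain ⟨n, -, hn⟩ := Cfsg.Agent.S1053.result (F := F) chevE6 hE6
  rw [← hn]
  have h1 : Nat.card ((chevE6.posUnipotent F).map (MulAut.conj n).toMonoidHom) = Nat.card (chevE6.posUnipotent F) :=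
    (Nat.card_congr ((chevE6.posUnipotent F).equivMapOfInjective _ (MulAut.conj n).injective).toEquiv).symm
  rw [h1, Cfsg.Agent.S1027.result chevE6 hE6, Nat.card_eq_fintype_card]
  rfl

theorem setup_neg [Fintype F] : Setup (X (K := F)) L' (sg ε) rho rho (fun r t => cc ε r * t) where
  hadd := X_add
  nodup := L'_nodup
  good := good_of_check L'_lt goodCheck_L'
  inj := fun t t' h => lprod_inj_of_card X_add L'_nodup (good_of_check L'_lt goodCheck_L')
    (by rw [← neg_eq, card_neg, L'_length]) h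
  hσ r hr t := sg_X hε (L'_lt r hr) t
  perm := by decide
  comm o ho := by
    have hlt : ∀ r ∈ o, r < 72 := fun r hr => L'_lt r (List.mem_flatten.2 ⟨o, ho, hr⟩)
    refine (orbit_check' o ho).imp_of_mem ?_
    intro r s hr hs h t u
    exact commute_of_nil (hlt r hr) (hlt s hs) h.1 h.2.1 h.2.2 t u
  left_inv r hr := rho_rho r (L'_lt r hr)

theorem R_chk : ∀ r ∈ R, rho r ∈ R → rho r = r ∧ par r = false := by decide +kernel

theorem R'_chk : ∀ r ∈ R', rho r ∈ R' → rho r = r ∧ par r = false := by decide +kernel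

theorem card_pos_ge [Fintype F] :
    Nat.card F ^ 16 ≤ Nat.card ↥(chevE6.posUnipotent F ⊓ fixS (sg ε)) := by
  have h1 := card_ge (setup_pos hε) (R := R) (by decide) (by decide) (fun r hr => cc_mul hε (L_lt r hr))
    (fun r hr h => by
      obtain ⟨h2, h3⟩ := R_chk hε r hr h
      exact ⟨h2, cc_one (L_lt r ((by decide : ∀ r ∈ R, r ∈ L.flatten) r hr)) h2 h3⟩)
  rw [posUnipotent_eq]
  exact h1

theorem card_neg_ge [Fintype F] :
    Nat.card F ^ 16 ≤ Nat.card ↥(chevE6.negUnipotent F ⊓ fixS (sg ε)) := by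
  have h1 := card_ge (setup_neg hε) (R := R') (by decide) (by decide) (fun r hr => cc_mul hε (L'_lt r hr))
    (fun r hr h => by
      obtain ⟨h2, h3⟩ := R'_chk hε r hr h
      exact ⟨h2, cc_one (L'_lt r ((by decide : ∀ r ∈ R', r ∈ L'.flatten) r hr)) h2 h3⟩)
  rw [neg_eq]
  exact h1

/-! ### The torus -/

/-- the elements `h_{α₄}(s) h_{α₃}(t) h_{α₅}(t)` -/
noncomputable def tor (s t : F) : GL chevE6.Idx F := hG hE6 39 s * (hG hE6 42 t * hG hE6 37 t)

theorem comm_of {r s : ℕ} (h : ((r, s) : ℕ × ℕ) ∈ ([(42, 37), (42, 34), (29, 37), (29, 34)] : List (ℕ × ℕ)))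
    (t u : F) : Commute (X r t) (X s u) := by
  have h1 : ∀ p ∈ ([(42, 37), (42, 34), (29, 37), (29, 34)] : List (ℕ × ℕ)), p.1 < 72 ∧ p.2 < 72 ∧ p.2 ≠ p.1 ∧
      p.2 ≠ chevE6.neg p.1 ∧ chevE6.commTerms p.1 p.2 = [] := by decide +kernel
  obtain ⟨a, b, c, d, e⟩ := h1 _ h
  exact commute_of_nil a b c d e t u

variable {C : Subgroup (GL chevE6.Idx F)}

theorem X39_mem (hU : chevE6.posUnipotent F ⊓ fixS (sg ε) ≤ C) (t : F) : X 39 t ∈ C := by
  refine hU ⟨Elts.xG_mem_posUnipotent hE6 ((isPosRoot_iff 39).2 (by decide)) t, ?_⟩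
  show sg ε (X 39 t) = X 39 t
  rw [sg_X hε (by norm_num), show rho 39 = 39 by decide +kernel,
    cc_one (by norm_num) (by decide +kernel) (by decide +kernel), one_mul]

theorem X32_mem (hV : chevE6.negUnipotent F ⊓ fixS (sg ε) ≤ C) (t : F) : X 32 t ∈ C := by
  refine hV ⟨Elts.xG_mem_negUnipotent hE6 ((isNegRoot_iff_lt 32 (by norm_num)).2 (by decide)) t, ?_⟩
  show sg ε (X 32 t) = X 32 t
  rw [sg_X hε (by norm_num), show rho 32 = 32 by decide +kernel,
    cc_one (by norm_num) (by decide +kernel) (by decide +kernel), one_mul]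

theorem cc_pair : ∀ r ∈ ([42, 37, 29, 34] : List ℕ), cc ε r = 1 := by
  have h : ∀ r ∈ ([42, 37, 29, 34] : List ℕ), par (rho r) = false ∧ eps r = 1 := by decide +kernel
  intro r hr
  unfold cc chi
  rw [(h r hr).1, (h r hr).2]
  simp

theorem Y_mem (hU : chevE6.posUnipotent F ⊓ fixS (sg ε) ≤ C) (t : F) : X 42 t * X 37 t ∈ C := by
  refine hU ⟨mul_mem (Elts.xG_mem_posUnipotent hE6 ((isPosRoot_iff 42).2 (by decide)) t)
    (Elts.xG_mem_posUnipotent hE6 ((isPosRoot_iff 37).2 (by decide)) t), ?_⟩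
  show sg ε (X 42 t * X 37 t) = X 42 t * X 37 t
  rw [map_mul, sg_X hε (by norm_num), sg_X hε (by norm_num), show rho 42 = 37 by decide +kernel,
    show rho 37 = 42 by decide +kernel, cc_pair hε 42 (by decide), cc_pair hε 37 (by decide), one_mul]
  exact (comm_of hε (by decide) t t).symm.eq

theorem Z_mem (hV : chevE6.negUnipotent F ⊓ fixS (sg ε) ≤ C) (t : F) : X 29 t * X 34 t ∈ C := by
  refine hV ⟨mul_mem (Elts.xG_mem_negUnipotent hE6 ((isNegRoot_iff_lt 29 (by norm_num)).2 (by decide)) t)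
    (Elts.xG_mem_negUnipotent hE6 ((isNegRoot_iff_lt 34 (by norm_num)).2 (by decide)) t), ?_⟩
  show sg ε (X 29 t * X 34 t) = X 29 t * X 34 t
  rw [map_mul, sg_X hε (by norm_num), sg_X hε (by norm_num), show rho 29 = 34 by decide +kernel,
    show rho 34 = 29 by decide +kernel, cc_pair hε 29 (by decide), cc_pair hε 34 (by decide), one_mul]
  exact (comm_of hε (by decide) t t).symm.eq

omit hε in
theorem n39 (t : F) : nG hE6 39 t = X 39 t * (X 32 (-t⁻¹) * X 39 t) := by
  rw [nG_def, show chevE6.neg 39 = 32 by decide +kernel]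

theorem npair (t : F) : nG hE6 42 t * nG hE6 37 t =
    (X 42 t * X 37 t) * ((X 29 (-t⁻¹) * X 34 (-t⁻¹)) * (X 42 t * X 37 t)) := by
  rw [nG_def, nG_def, show chevE6.neg 42 = 29 by decide +kernel, show chevE6.neg 37 = 34 by decide +kernel]
  have c1 := (comm_of hε (F := F) (r := 42) (s := 37) (by decide) t t).eq
  have c2 := (comm_of hε (F := F) (r := 42) (s := 34) (by decide) t (-t⁻¹)).eq
  have c3 := (comm_of hε (F := F) (r := 29) (s := 37) (by decide) (-t⁻¹) t).eq
  calc X 42 t * (X 29 (-t⁻¹) * X 42 t) * (X 37 t * (X 34 (-t⁻¹) * X 37 t))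
      = X 42 t * X 29 (-t⁻¹) * (X 42 t * X 37 t) * X 34 (-t⁻¹) * X 37 t := by simp only [mul_assoc]
    _ = X 42 t * (X 29 (-t⁻¹) * X 37 t) * (X 42 t * X 34 (-t⁻¹)) * X 37 t := by rw [c1]; simp only [mul_assoc]
    _ = _ := by rw [c3, c2]; simp only [mul_assoc]

theorem comm_hn (t u : F) : Commute (nG hE6 42 t) (nG hE6 37 u) := by
  rw [nG_def, nG_def, show chevE6.neg 42 = 29 by decide +kernel, show chevE6.neg 37 = 34 by decide +kernel]
  have c1 := comm_of hε (F := F) (r := 42) (s := 37) (by decide)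
  have c2 := comm_of hε (F := F) (r := 42) (s := 34) (by decide)
  have c3 := comm_of hε (F := F) (r := 29) (s := 37) (by decide)
  have c4 := comm_of hε (F := F) (r := 29) (s := 34) (by decide)
  have a1 : ∀ v w : F, Commute (X 42 v) (X 37 u * (X 34 w * X 37 u)) := fun v w =>
    (c1 v u).mul_right ((c2 v w).mul_right (c1 v u))
  have a2 : ∀ v w : F, Commute (X 29 v) (X 37 u * (X 34 w * X 37 u)) := fun v w =>
    (c3 v u).mul_right ((c4 v w).mul_right (c3 v u))
  exact (a1 _ _).mul_left ((a2 _ _).mul_left (a1 _ _))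

theorem tor_mem (hU : chevE6.posUnipotent F ⊓ fixS (sg ε) ≤ C) (hV : chevE6.negUnipotent F ⊓ fixS (sg ε) ≤ C)
    (s t : F) : tor s t ∈ C := by
  have hn : ∀ a : F, nG hE6 39 a ∈ C := fun a => by
    rw [n39]
    exact mul_mem (X39_mem hε hU _) (mul_mem (X32_mem hε hV _) (X39_mem hε hU _))
  have hp : ∀ a : F, nG hE6 42 a * nG hE6 37 a ∈ C := fun a => by
    rw [npair hε]
    exact mul_mem (Y_mem hε hU _) (mul_mem (Z_mem hε hV _) (Y_mem hε hU _))
  unfold tor
  refine mul_mem ?_ ?_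
  · rw [hG_def]
    exact mul_mem (hn _) (hn _)
  · have h1 : hG hE6 42 t * hG hE6 37 t = (nG hE6 42 t * nG hE6 37 t) * (nG hE6 42 (-1) * nG hE6 37 (-1)) := by
      rw [hG_def, hG_def]
      have c := (comm_hn hε (F := F) (-1) t).eq
      calc nG hE6 42 t * nG hE6 42 (-1) * (nG hE6 37 t * nG hE6 37 (-1))
          = nG hE6 42 t * (nG hE6 42 (-1) * nG hE6 37 t) * nG hE6 37 (-1) := by simp only [mul_assoc]
        _ = _ := by rw [c]; simp only [mul_assoc]
    rw [h1]
    exact mul_mem (hp _) (hp _)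

omit hε in
theorem tor_mem_diag {s t : F} (hs : s ≠ 0) (ht : t ≠ 0) : tor s t ∈ chevE6.diagonalSubgroup F :=
  mul_mem (hG_mem_diagonal hE6 (by decide +kernel) hs)
    (mul_mem (hG_mem_diagonal hE6 (by decide +kernel) ht) (hG_mem_diagonal hE6 (by decide +kernel) ht))

omit hε in
theorem tor_entry {s t : F} (hs : s ≠ 0) (ht : t ≠ 0) (r : Fin chevE6.nroots) :
    ((tor s t : GL chevE6.Idx F) : Matrix chevE6.Idx chevE6.Idx F) (Sum.inr r) (Sum.inr r) =
      s ^ chevE6.cartan 3 r * (t ^ chevE6.cartan 2 r * t ^ chevE6.cartan 4 r) := by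
  have h3 := Cfsg.Agent.S1033.result chevE6 hE6 3 (by decide) s hs
  have h2 := Cfsg.Agent.S1033.result chevE6 hE6 2 (by decide) t ht
  have h4 := Cfsg.Agent.S1033.result chevE6 hE6 4 (by decide) t ht
  rw [show chevE6.simple 3 = 39 by decide +kernel] at h3
  rw [show chevE6.simple 2 = 42 by decide +kernel] at h2
  rw [show chevE6.simple 4 = 37 by decide +kernel] at h4
  unfold tor
  rw [Units.val_mul, Units.val_mul, coe_hG, coe_hG, coe_hG, h3, h2, h4, Matrix.diagonal_mul_diagonal,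
    Matrix.diagonal_mul_diagonal, Matrix.diagonal_apply_eq]
  rfl

omit hε in
theorem tor_inj {s t s' t' : Fˣ} (h : tor (s : F) (t : F) = tor (s' : F) (t' : F)) : s = s' ∧ t = t' := by
  have e1 : chevE6.cartan 3 46 = -1 ∧ chevE6.cartan 2 46 = 0 ∧ chevE6.cartan 4 46 = 0 := by decide +kernel
  have e2 : chevE6.cartan 3 56 = 0 ∧ chevE6.cartan 2 56 = -1 ∧ chevE6.cartan 4 56 = 0 := by decide +kernel
  have h1 := tor_entry (F := F) s.ne_zero t.ne_zero ⟨46, by decide +kernel⟩
  have h1' := tor_entry (F := F) s'.ne_zero t'.ne_zero ⟨46, by decide +kernel⟩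
  have h2 := tor_entry (F := F) s.ne_zero t.ne_zero ⟨56, by decide +kernel⟩
  have h2' := tor_entry (F := F) s'.ne_zero t'.ne_zero ⟨56, by decide +kernel⟩
  rw [h, h1'] at h1
  rw [h, h2'] at h2
  simp only [e1, e2, zpow_zero, mul_one, one_mul, zpow_neg, zpow_one, inv_inj] at h1 h2
  exact ⟨Units.ext h1.symm, Units.ext h2.symm⟩

/-- **the bound** for a subgroup containing the fixed points in `U` and `V` -/
theorem card_of_le [Fintype F] (h2 : (2 : F) ≠ 0) (hU : chevE6.posUnipotent F ⊓ fixS (sg ε) ≤ C)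
    (hV : chevE6.negUnipotent F ⊓ fixS (sg ε) ≤ C) : Nat.card F ^ 33 ≤ Nat.card C := by
  have hfin : Finite (GL chevE6.Idx F) := inferInstance
  let f : ↥(chevE6.negUnipotent F ⊓ fixS (sg ε)) × (Fˣ × Fˣ) × ↥(chevE6.posUnipotent F ⊓ fixS (sg ε)) → C :=
    fun p => ⟨p.1 * (tor (p.2.1.1 : F) (p.2.1.2 : F) * p.2.2), mul_mem (hV p.1.2) (mul_mem (tor_mem hε hU hV _ _)
      (hU p.2.2.2))⟩
  have hf : Function.Injective f := by
    rintro ⟨v, ⟨s, t⟩, u⟩ ⟨v', ⟨s', t'⟩, u'⟩ h
    have h1 : (v : GL chevE6.Idx F) * (tor (s : F) (t : F) * u) = v' * (tor (s' : F) (t' : F) * u') :=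
      congrArg Subtype.val h
    have hB : ∀ (a b : Fˣ) (w : ↥(chevE6.posUnipotent F ⊓ fixS (sg ε))),
        tor (a : F) (b : F) * (w : GL chevE6.Idx F) ∈ chevE6.borelSubgroup F := fun a b w =>
      mul_mem (le_sup_right (a := chevE6.posUnipotent F) (tor_mem_diag a.ne_zero b.ne_zero))
        (le_sup_left (b := chevE6.diagonalSubgroup F) w.2.1)
    have h3 : (v' : GL chevE6.Idx F)⁻¹ * v = 1 := by
      have h4 : (v' : GL chevE6.Idx F)⁻¹ * v ∈ chevE6.borelSubgroup F ⊓ chevE6.negUnipotent F := by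
        refine Subgroup.mem_inf.2 ⟨?_, Subgroup.mul_mem _ (Subgroup.inv_mem _ (Subgroup.mem_inf.1 v'.2).1) (Subgroup.mem_inf.1 v.2).1⟩
        have h5 : (v' : GL chevE6.Idx F)⁻¹ * v = (tor (s' : F) (t' : F) * u') * (tor (s : F) (t : F) * u)⁻¹ := by
          rw [eq_mul_inv_iff_mul_eq, mul_assoc, h1]
          group
        rw [h5]
        exact Subgroup.mul_mem _ (hB _ _ _) (Subgroup.inv_mem _ (hB _ _ _))
      rw [(Cfsg.Agent.S1037.result (F := F) chevE6 hE6).1] at h4
      exact Subgroup.mem_bot.1 h4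
    have h4 : v = v' := Subtype.ext (inv_mul_eq_one.1 h3).symm
    subst h4
    have h5 : tor (s : F) (t : F) * (u : GL chevE6.Idx F) = tor (s' : F) (t' : F) * u' := mul_left_cancel h1
    have h6 : (u' : GL chevE6.Idx F) * (u : GL chevE6.Idx F)⁻¹ = 1 := by
      have h7 : (u' : GL chevE6.Idx F) * (u : GL chevE6.Idx F)⁻¹ ∈
          chevE6.posUnipotent F ⊓ chevE6.diagonalSubgroup F := by
        refine Subgroup.mem_inf.2 ⟨Subgroup.mul_mem _ (Subgroup.mem_inf.1 u'.2).1 (Subgroup.inv_mem _ (Subgroup.mem_inf.1 u.2).1), ?_⟩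
        have h8 : (u' : GL chevE6.Idx F) * (u : GL chevE6.Idx F)⁻¹ = (tor (s' : F) (t' : F))⁻¹ * tor (s : F) (t : F) := by
          rw [eq_inv_mul_iff_mul_eq, ← mul_assoc, ← h5]
          group
        rw [h8]
        exact Subgroup.mul_mem _ (Subgroup.inv_mem _ (tor_mem_diag s'.ne_zero t'.ne_zero)) (tor_mem_diag s.ne_zero t.ne_zero)
      rw [(Cfsg.Agent.S1036.result (F := F) chevE6 hE6).2] at h7
      exact Subgroup.mem_bot.1 h7
    have h7 : u = u' := Subtype.ext (mul_inv_eq_one.1 h6).symm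
    subst h7
    obtain ⟨rfl, rfl⟩ := tor_inj (mul_right_cancel h5)
    rfl
  have hle := Nat.card_le_card_of_injective f hf
  rw [Nat.card_prod, Nat.card_prod, Nat.card_prod] at hle
  have h3 : Nat.card F ≤ Nat.card Fˣ * Nat.card Fˣ := by
    have h4 : Nat.card Fˣ + 1 = Nat.card F := by
      rw [Nat.card_units]
      have := Nat.card_pos (α := F)
      omega
    have h5 : 3 ≤ Nat.card F := by
      classical
      have h6 : ({0, 1, 2} : Finset F).card = 3 := by
        have a1 : (1 : F) ≠ 2 := by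
          intro h
          exact one_ne_zero (α := F) (by linear_combination -h)
        rw [Finset.card_insert_of_notMem, Finset.card_insert_of_notMem, Finset.card_singleton]
        · rw [Finset.mem_singleton]
          exact a1
        · rw [Finset.mem_insert, Finset.mem_singleton]
          push Not
          exact ⟨zero_ne_one, h2.symm⟩
      rw [Nat.card_eq_fintype_card, ← h6]
      exact Finset.card_le_univ _
    have h6 : 2 ≤ Nat.card Fˣ := by omega
    nlinarith
  calc Nat.card F ^ 33 = Nat.card F ^ 16 * (Nat.card F * Nat.card F ^ 16) := by ring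
    _ ≤ _ := Nat.mul_le_mul (card_neg_ge hε) (Nat.mul_le_mul h3 (card_pos_ge hε))
    _ ≤ _ := hle

theorem pow_of_mem_pos [Fintype F] (p : ℕ) [Fact p.Prime] [CharP F p] {g : GL chevE6.Idx F}
    (h : g ∈ chevE6.posUnipotent F ∨ g ∈ chevE6.negUnipotent F) : ∃ k, g ^ p ^ k = 1 := by
  obtain ⟨n, -, hn⟩ := FiniteField.card F p
  refine ⟨n * 36, ?_⟩
  have h1 : p ^ ((n : ℕ) * 36) = Nat.card F ^ 36 := by rw [pow_mul, Nat.card_eq_fintype_card, hn]
  rw [h1]
  rcases h with h | h
  · have h2 := pow_card_eq_one' (x := (⟨g, h⟩ : ↥(chevE6.posUnipotent F)))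
    rw [Cfsg.Agent.S1027.result chevE6 hE6, ← Nat.card_eq_fintype_card] at h2
    exact congrArg Subtype.val h2
  · have h2 := pow_card_eq_one' (x := (⟨g, h⟩ : ↥(chevE6.negUnipotent F)))
    rw [card_neg] at h2
    exact congrArg Subtype.val h2

/-- **(card)** for every subgroup containing the fixed elements of `p`-power order -/
theorem card_pow [Fintype F] (h2 : (2 : F) ≠ 0) (p : ℕ) [Fact p.Prime] [CharP F p] {d' : MulAut ↥(chevE6.group F)}
    (hd : IsD hE6 (fun i : Fin 6 => if i = 1 then ε else 1) d') (C₀ : Subgroup ↥(chevE6.group F))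
    (hC : ∀ g : ↥(chevE6.group F), (∃ k, g ^ p ^ k = 1) →
      (d' * gr hE6 symmE6 : MulAut ↥(chevE6.group F)) g = g → g ∈ C₀) :
    Nat.card F ^ 33 ≤ Nat.card C₀ := by
  have h1 : Nat.card (C₀.map (chevE6.group F).subtype) = Nat.card C₀ :=
    (Nat.card_congr (C₀.equivMapOfInjective _ (chevE6.group F).subtype_injective).toEquiv).symm
  have key : ∀ g : GL chevE6.Idx F, (g ∈ chevE6.posUnipotent F ∨ g ∈ chevE6.negUnipotent F) → sg ε g = g →
      g ∈ C₀.map (chevE6.group F).subtype := by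
    intro g hg hs
    have hG : g ∈ chevE6.group F := by
      rcases hg with h | h
      · exact Elts.posUnipotent_le_group hE6 F h
      · exact Elts.negUnipotent_le_group hE6 F h
    refine ⟨⟨g, hG⟩, hC _ ?_ ?_, rfl⟩
    · obtain ⟨k, hk⟩ := pow_of_mem_pos hε p hg
      exact ⟨k, Subtype.ext hk⟩
    · apply Subtype.ext
      rw [coe_tau hε hd]
      exact hs
  rw [← h1]
  refine card_of_le hε h2 ?_ ?_
  · intro g hg
    exact key g (Or.inl (Subgroup.mem_inf.1 hg).1) (Subgroup.mem_inf.1 hg).2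
  · intro g hg
    exact key g (Or.inr (Subgroup.mem_inf.1 hg).1) (Subgroup.mem_inf.1 hg).2

/-- **the centraliser** -/
theorem card_std [Fintype F] (h2 : (2 : F) ≠ 0) {d' : MulAut ↥(chevE6.group F)}
    (hd : IsD hE6 (fun i : Fin 6 => if i = 1 then ε else 1) d') :
    Nat.card F ^ 33 ≤ Nat.card {x : ↥(chevE6.group F) //
      (d' * gr hE6 symmE6 : MulAut ↥(chevE6.group F)) x = x} := by
  obtain ⟨p, hp⟩ := CharP.exists F
  have : Fact p.Prime := ⟨CharP.char_is_prime F p⟩
  exact card_pow hε h2 p hd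
    ((d' * gr hE6 symmE6 : MulAut ↥(chevE6.group F)).toMonoidHom.eqLocus (MonoidHom.id _)) (fun g _ h => h)

end Field

end Cfsg.Agent.H977.IFO.E6Card
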