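import Mathlib
import Cfsg.Agent.ChevalleyStructure.TwistedFix

/-!
# A lower bound for the number of fixed points in a unipotent group (helper977)

`card_ge` : `σ` permutes the root subgroups (`σ x_r(t) = x_{ρ r}(c_r t)`), `R` a list of representatives of `ρ`-orbits,
`c_r = 1` for the fixed ones: `|K| ^ |R| ≤ |U ∩ Fix σ|`.
-/

set_option autoImplicit false

namespace Cfsg.Agent.H977.IFO

open Cfsg.Agent.ChevalleyStructure.TwistedU Cfsg.Agent.ChevalleyStructure.TwistedFix

variable {Γ ι K : Type*} [Group Γ] [Field K] [Finite K] {x : ι → K → Γ} [DecidableEq ι]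

theorem card_ge {L : List (List ι)} {σ : Γ →* Γ} {ρ : ι → ι} {c : ι → K}
    (S : Setup x L σ ρ ρ (fun r t => c r * t)) {R : List ι} (hnd : R.Nodup) (hRL : ∀ r ∈ R, r ∈ L.flatten)
    (hc : ∀ r ∈ L.flatten, c r * c (ρ r) = 1) (hR : ∀ r ∈ R, ρ r ∈ R → ρ r = r ∧ c r = 1) [Finite Γ] :
    Nat.card K ^ R.length ≤ Nat.card ↥(rspan x {k | k ∈ L.flatten} ⊓ fixS σ) := by
  classical
  rw [S.card_fix]
  have hfinT : Finite {t : ι → K // (∀ r, r ∉ L.flatten → t r = 0) ∧ ∀ r ∈ L.flatten, t (ρ r) = c r * t r} := by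
    have hinj : Function.Injective (fun t : {t : ι → K // (∀ r, r ∉ L.flatten → t r = 0) ∧
        ∀ r ∈ L.flatten, t (ρ r) = c r * t r} => fun r : {r // r ∈ L.flatten} => t.1 r.1) := by
      intro t t' h
      apply Subtype.ext
      funext r
      by_cases hr : r ∈ L.flatten
      · exact congrFun h ⟨r, hr⟩
      · rw [t.2.1 r hr, t'.2.1 r hr]
    have : Fintype {r // r ∈ L.flatten} := List.Subtype.fintype L.flatten
    exact Finite.of_injective _ hinj
  let T : ({r // r ∈ R} → K) → ι → K := fun a r =>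
    if h : r ∈ R then a ⟨r, h⟩ else if h : ρ r ∈ R then (if r ∈ L.flatten then c (ρ r) * a ⟨ρ r, h⟩ else 0) else 0
  have hT : ∀ a, (∀ r, r ∉ L.flatten → T a r = 0) ∧ ∀ r ∈ L.flatten, T a (ρ r) = c r * T a r := by
    intro a
    constructor
    · intro r hr
      have h1 : r ∉ R := fun h => hr (hRL r h)
      by_cases h2 : ρ r ∈ R
      · simp only [T]
        rw [dif_neg h1, dif_pos h2, if_neg hr]
      · simp only [T]
        rw [dif_neg h1, dif_neg h2]
    · intro r hr
      have hρρ : ρ (ρ r) = r := S.left_inv r hr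
      have hρL : ρ r ∈ L.flatten := S.mem_ρ hr
      by_cases h1 : r ∈ R
      · by_cases h2 : ρ r ∈ R
        · obtain ⟨h3, h4⟩ := hR r h1 h2
          rw [h3, h4, one_mul]
        · have h5 : ρ (ρ r) ∈ R := by rw [hρρ]; exact h1
          have h6 : T a (ρ r) = c (ρ (ρ r)) * a ⟨ρ (ρ r), h5⟩ := by
            simp only [T]
            rw [dif_neg h2, dif_pos h5, if_pos hρL]
          have h7 : T a r = a ⟨r, h1⟩ := by
            simp only [T]
            rw [dif_pos h1]
          rw [h6, h7]
          congr 1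
          · rw [hρρ]
          · congr 1
            exact Subtype.ext hρρ
      · by_cases h2 : ρ r ∈ R
        · have h6 : T a (ρ r) = a ⟨ρ r, h2⟩ := by
            simp only [T]
            rw [dif_pos h2]
          have h7 : T a r = c (ρ r) * a ⟨ρ r, h2⟩ := by
            simp only [T]
            rw [dif_neg h1, dif_pos h2, if_pos hr]
          rw [h6, h7, ← mul_assoc, hc r hr, one_mul]
        · have h5 : ρ (ρ r) ∉ R := by rw [hρρ]; exact h1
          have h6 : T a (ρ r) = 0 := by
            simp only [T]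
            rw [dif_neg h2, dif_neg h5]
          have h7 : T a r = 0 := by
            simp only [T]
            rw [dif_neg h1, dif_neg h2]
          rw [h6, h7, mul_zero]
  have hfinR : Fintype {r // r ∈ R} := List.Subtype.fintype R
  have hle := Nat.card_le_card_of_injective (fun a : {r // r ∈ R} → K => (⟨T a, hT a⟩ :
    {t : ι → K // (∀ r, r ∉ L.flatten → t r = 0) ∧ ∀ r ∈ L.flatten, t (ρ r) = c r * t r})) (by
    intro a b h
    funext r
    have h1 : T a r.1 = T b r.1 := congrFun (congrArg Subtype.val h) r.1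
    simp only [T] at h1
    rwa [dif_pos r.2, dif_pos r.2] at h1)
  rw [Nat.card_fun] at hle
  have e : Nat.card {r // r ∈ R} = R.length := by
    rw [Nat.card_congr (hnd.getEquiv R).symm, Nat.card_eq_fintype_card, Fintype.card_fin]
  rwa [e] at hle

end Cfsg.Agent.H977.IFO
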